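import Mathlib

/-! Local algebra for the behaviour of normalizations under flat unramified local extensions. -/

set_option autoImplicit false
set_option linter.style.haveILetI false
universe u

open TensorProduct IsLocalRing

namespace GrothLib.DeltaFlat4

/-- A Noetherian local ring whose maximal ideal is generated by a regular element is a DVR. -/
theorem isDVR_of_maximalIdeal_eq_span {R : Type u} [CommRing R] [IsNoetherianRing R] [IsLocalRing R]
    {π : R} (hπ : maximalIdeal R = Ideal.span {π}) (hreg : π ∈ nonZeroDivisors R) :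
    ∃ _ : IsDomain R, IsDiscreteValuationRing R := by
  have hdec : ∀ x : R, x ≠ 0 → ∃ (n : ℕ) (v : R), IsUnit v ∧ x = π ^ n * v := by
    intro x hx
    have hex : ∃ n, x ∉ Ideal.span {π} ^ n := by
      by_contra! h
      apply hx
      have hmem : x ∈ ⨅ n, maximalIdeal R ^ n := Submodule.mem_iInf _ |>.2 (hπ ▸ h)
      rwa [Ideal.iInf_pow_eq_bot_of_isLocalRing _ (maximalIdeal.isMaximal R).ne_top, Ideal.mem_bot] at hmem
    classical
    obtain ⟨n, hn, hmin⟩ : ∃ n, x ∉ Ideal.span {π} ^ n ∧ ∀ k < n, x ∈ Ideal.span {π} ^ k :=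
      ⟨Nat.find hex, Nat.find_spec hex, fun k hk => not_not.1 (Nat.find_min hex hk)⟩
    cases n with
    | zero => simp at hn
    | succ n =>
      have h1 := hmin n n.lt_succ_self
      rw [Ideal.span_singleton_pow, Ideal.mem_span_singleton'] at h1
      obtain ⟨v, rfl⟩ := h1
      refine ⟨n, v, by_contra fun hv => hn ?_, mul_comm _ _⟩
      have hv' : v ∈ maximalIdeal R := hv
      rw [hπ] at hv'
      rw [pow_succ']
      exact Ideal.mul_mem_mul hv' (by rw [Ideal.span_singleton_pow]; exact Ideal.mem_span_singleton_self _)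
  haveI : NoZeroDivisors R := ⟨fun {a b} hab => by
    by_contra! h
    obtain ⟨n, v, hv, rfl⟩ := hdec a h.1
    obtain ⟨m, w, hw, rfl⟩ := hdec b h.2
    have h2 : π ^ (n + m) * (v * w) = 0 := by rw [← hab]; ring
    rw [(hv.mul hw).mul_left_eq_zero] at h2
    exact one_ne_zero (α := R) ((mem_nonZeroDivisors_iff_right.1 (pow_mem hreg (n + m))) 1
      (by rw [one_mul, h2]))⟩
  haveI : IsDomain R := NoZeroDivisors.to_isDomain R
  have hπ0 : π ≠ 0 := nonZeroDivisors.ne_zero hreg
  exact ⟨inferInstance, IsDiscreteValuationRing.ofHasUnitMulPowIrreducibleFactorization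
    ⟨π, by
      refine ⟨fun hu => (maximalIdeal.isMaximal R).ne_top (hπ ▸ Ideal.span_singleton_eq_top.2 hu), fun a b hab => ?_⟩
      by_contra! h
      have ha : a ∈ Ideal.span {π} := hπ ▸ (show a ∈ maximalIdeal R from h.1)
      have hb : b ∈ Ideal.span {π} := hπ ▸ (show b ∈ maximalIdeal R from h.2)
      obtain ⟨a', rfl⟩ := Ideal.mem_span_singleton'.1 ha
      obtain ⟨b', rfl⟩ := Ideal.mem_span_singleton'.1 hb
      have : π * (1 - a' * b' * π) = 0 := by linear_combination hab
      have h1 := (mul_eq_zero.1 this).resolve_left hπ0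
      exact h.1 ((IsUnit.of_mul_eq_one (b' * π) (by linear_combination -h1) : IsUnit a').mul
        (IsUnit.of_mul_eq_one (a' * b') (by linear_combination -h1))),
      fun {x} hx => by
        obtain ⟨n, v, hv, rfl⟩ := hdec x hx
        exact ⟨n, hv.unit, rfl⟩⟩⟩

/-- Maximal ideals containing a regular element of a ring integral over a one-dimensional local ring. -/
theorem height_le_one_of_mem {R : Type u} [CommRing R] [IsNoetherianRing R] {d : R} {P : Ideal R}
    [P.IsMaximal] (hd : d ∈ P) (h : ∀ Q : Ideal R, Q.IsPrime → d ∈ Q → Q.IsMaximal) : P.height ≤ 1 := by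
  refine Ideal.height_le_one_of_isPrincipal_of_mem_minimalPrimes (Ideal.span {d}) P
    ⟨⟨inferInstance, (Ideal.span_singleton_le_iff_mem _).2 hd⟩, fun Q hQ hQP => ?_⟩
  exact ((h Q hQ.1 (hQ.2 (Ideal.mem_span_singleton_self d))).eq_of_le
    (Ideal.IsPrime.ne_top ‹P.IsMaximal›.isPrime) hQP).ge

/-- `Q ⊗ L` is reduced for a finite field extension `Q` and a separable algebraic one `L`. -/
theorem isReduced_tensor_of_isSeparable (k Q L : Type u) [Field k] [Field Q] [Field L]
    [Algebra k Q] [Algebra k L] [Algebra.IsSeparable k L] : IsReduced (Q ⊗[k] L) := by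
  refine IsReduced.tensorProduct_of_flat_of_forall_fg fun D hD => ?_
  haveI : Algebra.IsIntegral k D := Algebra.IsIntegral.of_injective D.val Subtype.val_injective
  letI : Field D := (isField_of_isIntegral_of_isField' (R := k) (S := D) (Field.toIsField k)).toField
  haveI : Algebra.IsSeparable k D := Algebra.IsSeparable.of_algHom k L D.val
  haveI : Algebra.FiniteType k D := (Subalgebra.fg_iff_finiteType D).1 hD
  haveI : Module.Finite k D := Algebra.IsIntegral.finite
  haveI : Algebra.FormallyUnramified k D := Algebra.FormallyUnramified.of_isSeparable k D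
  exact Algebra.FormallyUnramified.isReduced_of_field Q (Q ⊗[k] D)

/-- A quotient of a reduced Artinian ring is reduced. -/
theorem isReduced_of_surjective {R S : Type*} [CommRing R] [CommRing S] [IsArtinianRing R] [IsReduced R]
    (f : R →+* S) (hf : Function.Surjective f) : IsReduced S := by
  haveI := IsArtinianRing.isSemisimpleRing_of_isReduced R
  refine ⟨fun z hz => ?_⟩
  obtain ⟨y, rfl⟩ := hf z
  obtain ⟨k, hk⟩ := hz
  obtain ⟨e, he, hker⟩ := IsSemisimpleRing.ideal_eq_span_idempotent (RingHom.ker f)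
  have h1 : y ^ k ∈ RingHom.ker f := by rw [RingHom.mem_ker, map_pow, hk]
  rw [hker, Ideal.mem_span_singleton'] at h1
  obtain ⟨w, hw⟩ := h1
  have h2 : ((1 - e) * y) ^ (k + 1) = 0 := by
    rw [mul_pow, he.one_sub.pow_succ_eq, pow_succ, ← hw]
    linear_combination (-(w * y)) * he.eq
  have h4 : y = e * y := by linear_combination IsReduced.eq_zero _ ⟨_, h2⟩
  have h5 : f e = 0 := (RingHom.mem_ker (f := f)).1 (hker ▸ Ideal.mem_span_singleton_self e)
  rw [h4, map_mul, h5, zero_mul]

/-- If `R/I` is reduced Artinian, `I` generates the maximal ideal of `R_n` for `I ≤ n` maximal. -/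
theorem maximalIdeal_localization_eq_map {R : Type u} [CommRing R] (I n : Ideal R) [n.IsMaximal]
    [IsArtinianRing (R ⧸ I)] [IsReduced (R ⧸ I)] (hIn : I ≤ n) :
    maximalIdeal (Localization.AtPrime n) = I.map (algebraMap R (Localization.AtPrime n)) := by
  refine le_antisymm ?_ ?_
  · rw [← Localization.AtPrime.map_eq_maximalIdeal, Ideal.map_le_iff_le_comap]
    intro z hz
    haveI := IsArtinianRing.isSemisimpleRing_of_isReduced (R ⧸ I)
    obtain ⟨e, he, hnb⟩ := IsSemisimpleRing.ideal_eq_span_idempotent (n.map (Ideal.Quotient.mk I))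
    obtain ⟨e', rfl⟩ := Ideal.Quotient.mk_surjective e
    have hcomap : (n.map (Ideal.Quotient.mk I)).comap (Ideal.Quotient.mk I) = n := by
      rw [Ideal.comap_map_of_surjective _ Ideal.Quotient.mk_surjective, ← RingHom.ker_eq_comap_bot,
        Ideal.mk_ker, sup_eq_left.2 hIn]
    have he' : e' ∈ n := by
      rw [← hcomap, Ideal.mem_comap, hnb]
      exact Ideal.mem_span_singleton_self _
    have hout : (1 - e') ∉ n := fun h => (Ideal.IsMaximal.ne_top ‹_›)
      ((Ideal.eq_top_iff_one n).2 (by simpa using n.add_mem h he'))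
    have hzb : Ideal.Quotient.mk I z ∈ n.map (Ideal.Quotient.mk I) := Ideal.mem_map_of_mem _ hz
    rw [hnb, Ideal.mem_span_singleton'] at hzb
    obtain ⟨w, hw⟩ := hzb
    have hmemI : (1 - e') * z ∈ I := by
      rw [← Ideal.Quotient.eq_zero_iff_mem, map_mul, map_sub, map_one, ← hw]
      linear_combination -w * he.eq
    have hu : IsUnit (algebraMap R (Localization.AtPrime n) (1 - e')) :=
      IsLocalization.map_units _ (⟨_, hout⟩ : n.primeCompl)
    have := Ideal.mem_map_of_mem (algebraMap R (Localization.AtPrime n)) hmemI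
    rw [map_mul] at this
    exact Ideal.mem_comap.2 ((Ideal.unit_mul_mem_iff_mem _ hu).1 this)
  · rw [← Localization.AtPrime.map_eq_maximalIdeal]
    exact Ideal.map_mono hIn

end GrothLib.DeltaFlat4
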