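import Groth.Agent.Lib.DeltaFlat4.Local
import Groth.Agent.Lib.RedTotal.Delta
import Groth.Agent.Lib.LenTensor.Basic
import Mathlib

/-! The delta invariant is unchanged by flat local extensions with unramified closed fibre. -/

set_option autoImplicit false
set_option linter.style.haveILetI false
set_option maxHeartbeats 1000000
universe u

open TensorProduct IsLocalRing GrothLib.SemiLoc

namespace GrothLib.DeltaFlat4

theorem length_coker_eq_of_fractionRing (B : Type u) [CommRing B] (Q : Type u) [CommRing Q]
    [Algebra B Q] [IsFractionRing B Q] :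
    Curv2.deltaInv B = Module.length B (↥(integralClosure B Q) ⧸
      LinearMap.range (Algebra.linearMap B ↥(integralClosure B Q))) := by
  let e : FractionRing B ≃ₐ[B] Q := FractionRing.algEquiv B Q
  refine (Submodule.Quotient.equiv _ _ e.mapIntegralClosure.toLinearEquiv ?_).length_eq
  rw [← LinearMap.range_comp]
  congr 1
  exact LinearMap.ext fun b => e.mapIntegralClosure.commutes b

theorem deltaInv_eq_of_algHom {B Q T : Type u} [CommRing B] [CommRing Q] [CommRing T] [Algebra B Q]
    [IsFractionRing B Q] [Algebra B T] (J : T →ₐ[B] Q) (hJ : Function.Injective J)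
    (hrange : J.range = integralClosure B Q) :
    Curv2.deltaInv B = Module.length B (T ⧸ LinearMap.range (Algebra.linearMap B T)) := by
  rw [length_coker_eq_of_fractionRing B Q]
  let eT : T ≃ₐ[B] integralClosure B Q :=
    (AlgEquiv.ofInjective J hJ).trans (Subalgebra.equivOfEq _ _ hrange)
  refine (Submodule.Quotient.equiv _ _ eT.toLinearEquiv ?_).symm.length_eq
  rw [← LinearMap.range_comp]
  congr 1
  exact LinearMap.ext fun b => eT.commutes b

variable (A B : Type u) [CommRing A] [IsLocalRing A] [IsReduced A] [IsNoetherianRing A]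
  [CommRing B] [IsLocalRing B] [IsNoetherianRing B] [Algebra A B] [IsLocalHom (algebraMap A B)]
  [Module.Flat A B]

local notation "KA" => FractionRing A
local notation "MA" => integralClosure A (FractionRing A)

theorem exists_isDVR_localization (S : Type u) [CommRing S] [Algebra A S] {d : A} (hdm : d ∈ maximalIdeal A) (hd : d ∈ nonZeroDivisors A)
    (hprimeA : ∀ Q : Ideal A, Q.IsPrime → d ∈ Q → Q = maximalIdeal A)
    (hN : Module.Finite A S) (hdM : algebraMap A S d ∈ nonZeroDivisors S)
    (hnorm : ∀ p : PrimeSpectrum S,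
      IsDomain (Localization.AtPrime p.asIdeal) ∧ IsIntegrallyClosed (Localization.AtPrime p.asIdeal))
    (hm : (maximalIdeal A).map (algebraMap A B) = maximalIdeal B)
    (hred : ∀ (n₀ : Ideal S) [n₀.IsMaximal] [Algebra (ResidueField A) (S ⧸ n₀)]
      [IsScalarTower A (ResidueField A) (S ⧸ n₀)],
      IsReduced ((S ⧸ n₀) ⊗[ResidueField A] ResidueField B))
    (hregd : algebraMap A (B ⊗[A] S) d ∈ nonZeroDivisors (B ⊗[A] S))
    (n : Ideal (B ⊗[A] S)) [n.IsMaximal] :
    ∃ _ : IsDomain (Localization.AtPrime n), IsDiscreteValuationRing (Localization.AtPrime n) := by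
  classical
  haveI := hN
  let T := B ⊗[A] S
  haveI : IsNoetherianRing T := IsNoetherianRing.of_finite B T
  haveI : IsNoetherianRing S := IsNoetherianRing.of_finite A S
  let incl : S →ₐ[A] T := Algebra.TensorProduct.includeRight
  let n₀ : Ideal S := n.comap incl
  have hnB : n.comap (algebraMap B T) = maximalIdeal B := by
    haveI : Algebra.IsIntegral B T := Algebra.IsIntegral.of_finite B T
    exact IsLocalRing.eq_maximalIdeal (Ideal.isMaximal_comap_of_isIntegral_of_isMaximal n)
  have hn₀A : n₀.comap (algebraMap A S) = maximalIdeal A := by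
    show (n.comap incl).comap _ = _
    ext a
    rw [Ideal.mem_comap, Ideal.mem_comap, AlgHom.commutes, IsScalarTower.algebraMap_apply A B T,
      ← Ideal.mem_comap, hnB]
    exact ⟨fun h => by_contra fun h' => h ((IsLocalRing.notMem_maximalIdeal.1 h').map _),
      fun h => hm ▸ Ideal.mem_map_of_mem _ h⟩
  haveI : Algebra.IsIntegral A S := Algebra.IsIntegral.of_finite A S
  haveI : (n₀.comap (algebraMap A S)).IsMaximal := hn₀A ▸ maximalIdeal.isMaximal A
  haveI hn₀prime : n₀.IsPrime := Ideal.IsPrime.comap _
  haveI hn₀max : n₀.IsMaximal := Ideal.isMaximal_of_isIntegral_of_isMaximal_comap (R := A) n₀ ‹(n₀.comap (algebraMap A S)).IsMaximal›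
  -- the local ring of the normalization is a discrete valuation ring
  obtain ⟨hdom, hic⟩ := hnorm ⟨n₀, hn₀prime⟩
  let O := Localization.AtPrime n₀
  haveI : IsDomain O := hdom
  haveI : IsIntegrallyClosed O := hic
  haveI : IsNoetherianRing O := IsLocalization.isNoetherianRing n₀.primeCompl O inferInstance
  have hdn₀ : algebraMap A S d ∈ n₀ := (SetLike.ext_iff.1 hn₀A d).2 hdm
  have hheight₀ : n₀.height ≤ 1 := height_le_one_of_mem hdn₀ fun P hP hdP => by
    haveI : (P.comap (algebraMap A S)).IsMaximal :=
      (hprimeA _ (Ideal.IsPrime.comap _) hdP) ▸ maximalIdeal.isMaximal A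
    exact Ideal.isMaximal_of_isIntegral_of_isMaximal_comap (R := A) P ‹(P.comap (algebraMap A S)).IsMaximal›
  have hdO : algebraMap S O (algebraMap A S d) ≠ 0 := fun h => by
    rw [← map_zero (algebraMap S O), IsLocalization.eq_iff_exists n₀.primeCompl] at h
    obtain ⟨c, hc⟩ := h
    rw [mul_zero] at hc
    exact c.2 ((mul_right_mem_nonZeroDivisors_eq_zero_iff hdM).1 hc ▸ n₀.zero_mem)
  have hOF : ¬ IsField O := fun h => hdO (Ideal.mem_bot.1 (IsLocalRing.isField_iff_maximalIdeal_eq.1 h ▸
    (IsLocalization.AtPrime.to_map_mem_maximal_iff O n₀ _).2 hdn₀))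
  haveI : Ring.KrullDimLE 1 O := Ring.krullDimLE_iff.2 (by
    rw [IsLocalization.AtPrime.ringKrullDim_eq_height n₀ O]
    exact_mod_cast hheight₀)
  haveI : Ring.DimensionLEOne O := ⟨fun {P} hP0 hP => by
    rcases Ring.krullDimLE_one_iff.1 ‹_› P hP with h | h
    · rw [IsDomain.minimalPrimes_eq_singleton_bot] at h
      exact absurd h hP0
    · exact h⟩
  haveI : IsDedekindDomain O := {}
  haveI : IsDiscreteValuationRing O :=
    ((IsDiscreteValuationRing.TFAE O hOF).out 0 2 : IsDiscreteValuationRing O ↔ IsDedekindDomain O).2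
      inferInstance
  obtain ⟨ϖ, hϖ⟩ := IsDiscreteValuationRing.exists_irreducible O
  obtain ⟨π, c, hπc⟩ := IsLocalization.exists_mk'_eq n₀.primeCompl ϖ
  have hπmax : maximalIdeal O = Ideal.span {algebraMap S O π} := by
    rw [hϖ.maximalIdeal_eq, Ideal.span_singleton_eq_span_singleton]
    exact ⟨(IsLocalization.map_units O c).unit, by rw [IsUnit.unit_spec, ← hπc, IsLocalization.mk'_spec]⟩
  -- reducedness of the fibre
  let Qf := S ⧸ n₀
  letI : Field Qf := Ideal.Quotient.field n₀
  letI : Algebra (ResidueField A) Qf := (Ideal.Quotient.lift (maximalIdeal A) (algebraMap A Qf)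
    (fun a ha => Ideal.Quotient.eq_zero_iff_mem.2 ((SetLike.ext_iff.1 hn₀A a).2 ha))).toAlgebra
  haveI : IsScalarTower A (ResidueField A) Qf := IsScalarTower.of_algebraMap_eq fun _ => rfl
  haveI : Module.Finite (ResidueField A) Qf := Module.Finite.of_restrictScalars_finite A _ _
  let I : Ideal (B ⊗[A] S) := n₀.map incl
  have hmI : ∀ a ∈ maximalIdeal A, algebraMap A T a ∈ I := fun a ha => by
    rw [← AlgHom.commutes incl]
    exact Ideal.mem_map_of_mem _ ((SetLike.ext_iff.1 hn₀A a).2 ha)
  letI : Algebra (ResidueField A) (T ⧸ I) := RingHom.toAlgebra (R := ResidueField A) (S := T ⧸ I)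
    (Ideal.Quotient.lift (maximalIdeal A) (algebraMap A (T ⧸ I))
      (fun a ha => Ideal.Quotient.eq_zero_iff_mem.2 (hmI a ha)))
  haveI : IsScalarTower A (ResidueField A) (T ⧸ I) := IsScalarTower.of_algebraMap_eq fun _ => rfl
  let fQ₀ : Qf →+* T ⧸ I := Ideal.quotientMap I (incl : S →+* T) Ideal.le_comap_map
  let fQ : Qf →ₐ[ResidueField A] T ⧸ I := { fQ₀ with
    commutes' := fun r => by
      obtain ⟨a, rfl⟩ := IsLocalRing.residue_surjective r
      exact congrArg (Ideal.Quotient.mk I) (incl.commutes a) }
  let fB₀ : ResidueField B →+* T ⧸ I := Ideal.Quotient.lift (maximalIdeal B) (algebraMap B (T ⧸ I))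
    (fun b hb => by
      have hle : (maximalIdeal A).map (algebraMap A B) ≤ I.comap (algebraMap B T) :=
        Ideal.map_le_iff_le_comap.2 fun a ha => by
          show algebraMap B T (algebraMap A B a) ∈ I
          rw [← IsScalarTower.algebraMap_apply]
          exact hmI a ha
      exact Ideal.Quotient.eq_zero_iff_mem.2 (hle (hm ▸ hb)))
  let fB : ResidueField B →ₐ[ResidueField A] T ⧸ I := { fB₀ with
    commutes' := fun r => by
      obtain ⟨a, rfl⟩ := IsLocalRing.residue_surjective r
      exact congrArg (Ideal.Quotient.mk I) (IsScalarTower.algebraMap_apply A B T a).symm }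
  let Ψ := Algebra.TensorProduct.productMap fQ fB
  have hΨ : Function.Surjective Ψ := by
    intro z
    obtain ⟨z, rfl⟩ := Ideal.Quotient.mk_surjective z
    induction z using TensorProduct.induction_on with
    | zero => exact ⟨0, by simp⟩
    | tmul b x =>
      refine ⟨Ideal.Quotient.mk n₀ x ⊗ₜ residue B b, ?_⟩
      rw [Algebra.TensorProduct.productMap_apply_tmul]
      show Ideal.Quotient.mk I (incl x) * Ideal.Quotient.mk I (algebraMap B T b) = _
      rw [← map_mul]
      congr 1
      show ((1 : B) ⊗ₜ[A] x) * (b ⊗ₜ[A] (1 : S)) = b ⊗ₜ x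
      rw [Algebra.TensorProduct.tmul_mul_tmul, one_mul, mul_one]
    | add a b ha hb =>
      obtain ⟨a', ha'⟩ := ha
      obtain ⟨b', hb'⟩ := hb
      exact ⟨a' + b', by rw [map_add, ha', hb', map_add]⟩
  haveI : IsReduced (Qf ⊗[ResidueField A] ResidueField B) := by
    exact hred n₀
  haveI : IsArtinianRing (ResidueField B ⊗[ResidueField A] Qf) :=
    IsArtinianRing.of_finite (ResidueField B) _
  haveI : IsArtinianRing (Qf ⊗[ResidueField A] ResidueField B) :=
    (Algebra.TensorProduct.comm (ResidueField A) (ResidueField B) Qf).toRingEquiv.surjective.isArtinianRing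
  haveI : IsArtinianRing (T ⧸ I) := hΨ.isArtinianRing
  haveI : IsReduced (T ⧸ I) := by exact isReduced_of_surjective (S := T ⧸ I) Ψ.toRingHom hΨ
  let L := Localization.AtPrime n
  haveI : IsNoetherianRing L := IsLocalization.isNoetherianRing n.primeCompl L inferInstance
  have hIn : I ≤ n := Ideal.map_comap_le
  have hgen : maximalIdeal L = I.map (algebraMap T L) := maximalIdeal_localization_eq_map I n hIn
  let φ : O →+* L := IsLocalization.lift (M := n₀.primeCompl) (g := (algebraMap T L).comp (incl : S →+* T))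
    (fun y => IsLocalization.map_units L (⟨incl y.1, fun h => y.2 h⟩ : n.primeCompl))
  have hφ : φ.comp (algebraMap S O) = (algebraMap T L).comp (incl : S →+* T) := IsLocalization.lift_comp _
  have hspan : maximalIdeal L = Ideal.span {φ (algebraMap S O π)} := by
    rw [hgen, ← Set.image_singleton, ← Ideal.map_span, ← hπmax,
      ← Localization.AtPrime.map_eq_maximalIdeal]
    show (n₀.map (incl : S →+* T)).map (algebraMap T L) = _
    rw [Ideal.map_map, Ideal.map_map, hφ]
  refine isDVR_of_maximalIdeal_eq_span hspan (mem_nonZeroDivisors_iff_right.2 fun x hx => ?_)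
  have hdL : algebraMap T L (algebraMap A T d) ∈ maximalIdeal L := by
    rw [← incl.commutes d]
    exact (IsLocalization.AtPrime.to_map_mem_maximal_iff L n _).2 hdn₀
  rw [hspan, Ideal.mem_span_singleton'] at hdL
  obtain ⟨w, hw⟩ := hdL
  obtain ⟨t, s, rfl⟩ := IsLocalization.exists_mk'_eq n.primeCompl x
  have h0 : algebraMap T L (t * algebraMap A T d) = algebraMap T L 0 := by
    rw [map_zero, map_mul, ← hw, ← IsLocalization.mk'_spec L t s]
    linear_combination (w * algebraMap T L s.1) * hx
  obtain ⟨c, hc⟩ := (IsLocalization.eq_iff_exists n.primeCompl L).1 h0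
  rw [mul_zero, ← mul_assoc, mul_right_mem_nonZeroDivisors_eq_zero_iff hregd] at hc
  exact (IsLocalization.mk'_eq_zero_iff t s).2 ⟨c, hc⟩

theorem deltaInv_eq_of_isReduced (hdim : ringKrullDim A = 1) (hN : Module.Finite A MA)
    (hnorm : ∀ p : PrimeSpectrum MA,
      IsDomain (Localization.AtPrime p.asIdeal) ∧ IsIntegrallyClosed (Localization.AtPrime p.asIdeal))
    (hm : (maximalIdeal A).map (algebraMap A B) = maximalIdeal B)
    (hred : ∀ (n₀ : Ideal MA) [n₀.IsMaximal] [Algebra (ResidueField A) (MA ⧸ n₀)]
      [IsScalarTower A (ResidueField A) (MA ⧸ n₀)],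
      IsReduced ((MA ⧸ n₀) ⊗[ResidueField A] ResidueField B)) :
    Curv2.deltaInv B = Curv2.deltaInv A := by
  classical
  haveI := hN
  haveI : Ring.KrullDimLE 1 A := Ring.krullDimLE_iff.mpr hdim.le
  obtain ⟨d, hdm, hd⟩ : ∃ d ∈ maximalIdeal A, d ∈ nonZeroDivisors A := by
    by_contra! h
    have hfin : (minimalPrimes A).Finite := minimalPrimes.finite_of_isNoetherianRing A
    have hsub : (maximalIdeal A : Set A) ⊆ ⋃ p ∈ hfin.toFinset, (p : Set A) := fun x hx => by
      have := h x hx
      rw [RedTotal.mem_nonZeroDivisors_iff] at this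
      push Not at this
      obtain ⟨p, hp⟩ := this
      exact Set.mem_biUnion (hfin.mem_toFinset.2 p.2) hp
    obtain ⟨p, hp, hle⟩ := (Ideal.subset_union_prime ⊥ ⊥ fun p hp _ _ =>
      (hfin.mem_toFinset.1 hp).1.1).1 hsub
    have hp' := hfin.mem_toFinset.1 hp
    haveI := hp'.1.1
    have e : p = maximalIdeal A := ((maximalIdeal.isMaximal A).eq_of_le hp'.1.1.ne_top hle).symm
    have h0 : (maximalIdeal A).height = 0 := by rw [Ideal.height_eq_zero_iff]; exact e ▸ hp'
    rw [← IsLocalRing.maximalIdeal_height_eq_ringKrullDim, h0] at hdim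
    exact absurd hdim (by norm_num)
  have hprimeA : ∀ Q : Ideal A, Q.IsPrime → d ∈ Q → Q = maximalIdeal A := fun Q hQ hdQ => by
    rcases Ring.krullDimLE_one_iff.1 ‹_› Q hQ with h | h
    · exact absurd hd (notMem_nonZeroDivisors_of_mem_mem_minimalPrimes hdQ h)
    · exact IsLocalRing.eq_maximalIdeal h
  -- the total ring of fractions of `B`
  let Q := B ⊗[A] KA
  haveI hQ : IsLocalization (Algebra.algebraMapSubmonoid B (nonZeroDivisors A)) Q := inferInstance
  haveI : IsNoetherianRing Q :=
    IsLocalization.isNoetherianRing (Algebra.algebraMapSubmonoid B (nonZeroDivisors A)) Q inferInstance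
  have hBQ : Function.Injective (algebraMap B Q) :=
    Algebra.TensorProduct.includeLeft_injective (S := B) (A := B) (IsFractionRing.injective A KA)
  have hheight : (maximalIdeal B).height ≤ 1 := by
    refine height_le_one_of_mem (d := algebraMap A B d)
      (hm ▸ Ideal.mem_map_of_mem _ hdm) fun P hP hdP => ?_
    have e := hprimeA (P.comap (algebraMap A B)) (Ideal.IsPrime.comap _) hdP
    have hle : maximalIdeal B ≤ P := by rw [← hm, Ideal.map_le_iff_le_comap, e]
    exact (maximalIdeal.isMaximal B).eq_of_le hP.ne_top hle ▸ maximalIdeal.isMaximal B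
  haveI : Ring.KrullDimLE 0 Q := Ring.krullDimLE_zero_iff.2 fun P hP => by
    obtain ⟨P', hP', hle⟩ := Ideal.exists_le_maximal P hP.ne_top
    suffices h : P' = P from h ▸ hP'
    by_contra hne
    haveI := hP'.isPrime
    haveI := hP
    have hlt : P.comap (algebraMap B Q) < P'.comap (algebraMap B Q) := by
      refine lt_of_le_of_ne (Ideal.comap_mono hle) fun h => hne ?_
      rw [← IsLocalization.map_comap (Algebra.algebraMapSubmonoid B (nonZeroDivisors A)) Q P',
        ← IsLocalization.map_comap (Algebra.algebraMapSubmonoid B (nonZeroDivisors A)) Q P]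
      exact congrArg _ h.symm
    have hlt' : P'.comap (algebraMap B Q) < maximalIdeal B := by
      refine lt_of_le_of_ne (le_maximalIdeal (Ideal.IsPrime.comap _).ne_top) fun h => hP'.ne_top ?_
      refine Ideal.eq_top_of_isUnit_mem _ (?_ : algebraMap B Q (algebraMap A B d) ∈ P')
        (IsLocalization.map_units Q (⟨_, ⟨d, hd, rfl⟩⟩ : Algebra.algebraMapSubmonoid B (nonZeroDivisors A)))
      exact Ideal.mem_comap.1 (h ▸ hm ▸ Ideal.mem_map_of_mem _ hdm)
    have h1 := Ideal.height_strict_mono_of_isPrime_of_isPrime hlt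
    have h2 := (Ideal.height_strict_mono_of_isPrime_of_isPrime hlt').trans_le hheight
    rw [ENat.lt_one_iff_eq_zero.1 h2] at h1
    exact not_lt_zero h1
  haveI : IsArtinianRing Q :=
    isArtinianRing_iff_isNoetherianRing_krullDimLE_zero.2 ⟨inferInstance, inferInstance⟩
  haveI : IsFractionRing B Q := by
    refine (isLocalization_iff (nonZeroDivisors B) Q).2 ⟨fun b => ?_, fun z => ?_, fun {x y} h => ⟨1, by
      rw [hBQ h]⟩⟩
    · refine IsArtinianRing.isUnit_of_mem_nonZeroDivisors (mem_nonZeroDivisors_iff_right.2 fun z hz => ?_)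
      obtain ⟨⟨y, s⟩, hys⟩ := IsLocalization.surj (Algebra.algebraMapSubmonoid B (nonZeroDivisors A)) z
      have h1 : algebraMap B Q (y * b.1) = 0 := by
        rw [map_mul, ← hys, mul_right_comm, hz, zero_mul]
      have h2 := mem_nonZeroDivisors_iff_right.1 b.2 y (hBQ (h1.trans (map_zero _).symm))
      exact (IsLocalization.map_units Q s).mul_left_eq_zero.1 (hys.trans (by rw [h2, map_zero]))
    · obtain ⟨⟨y, s⟩, hys⟩ := IsLocalization.surj (Algebra.algebraMapSubmonoid B (nonZeroDivisors A)) z
      refine ⟨⟨y, ⟨s.1, mem_nonZeroDivisors_iff_right.2 fun x hx => hBQ ?_⟩⟩, hys⟩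
      rw [map_zero]
      exact (IsLocalization.map_units Q s).mul_left_eq_zero.1 (by rw [← map_mul, hx, map_zero])
  -- the normalization
  let T := B ⊗[A] MA
  let J : T →ₐ[B] Q := Algebra.TensorProduct.map (AlgHom.id B B) (MA).val
  have hJ : Function.Injective J :=
    Module.Flat.lTensor_preserves_injective_linearMap (MA).val.toLinearMap Subtype.val_injective
  haveI : IsNoetherianRing T := IsNoetherianRing.of_finite B T
  haveI : IsNoetherianRing MA := IsNoetherianRing.of_finite A MA
  let incl : MA →ₐ[A] T := Algebra.TensorProduct.includeRight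
  have hreg : ∀ a ∈ nonZeroDivisors A, algebraMap A T a ∈ nonZeroDivisors T := fun a ha => by
    refine mem_nonZeroDivisors_iff_right.2 fun t ht => hJ ?_
    have hu : IsUnit (algebraMap B Q (algebraMap A B a)) :=
      IsLocalization.map_units Q (⟨_, ⟨a, ha, rfl⟩⟩ : Algebra.algebraMapSubmonoid B (nonZeroDivisors A))
    have h2 := congrArg J ht
    rw [map_mul, IsScalarTower.algebraMap_apply A B T, AlgHom.commutes, map_zero] at h2
    rw [map_zero]
    exact hu.mul_left_eq_zero.1 h2
  have hdvr : ∀ (n : Ideal T) [n.IsMaximal],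
      ∃ _ : IsDomain (Localization.AtPrime n), IsDiscreteValuationRing (Localization.AtPrime n) :=
    fun n _ => exists_isDVR_localization A B MA hdm hd hprimeA hN
      (mem_nonZeroDivisors_iff_right.2 fun x hx => Subtype.ext
        (((IsLocalization.map_units KA (⟨d, hd⟩ : nonZeroDivisors A)).mul_left_eq_zero).1
          (congrArg Subtype.val hx))) hnorm hm hred (hreg d hd) n
  have hclosed : J.range = integralClosure B Q := by
    refine le_antisymm ?_ fun x hx => ?_
    · rintro _ ⟨t, rfl⟩
      exact (Algebra.IsIntegral.isIntegral (R := B) t).map J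
    obtain ⟨⟨y, ⟨_, a, ha, rfl⟩⟩, hys⟩ :=
      IsLocalization.surj (Algebra.algebraMapSubmonoid B (nonZeroDivisors A)) x
    let C : Ideal T :=
      { carrier := {t | ∃ t', J t' = J t * x}
        zero_mem' := ⟨0, by simp⟩
        add_mem' := by
          rintro a b ⟨a', ha⟩ ⟨b', hb⟩
          exact ⟨a' + b', by rw [map_add, map_add, ha, hb, add_mul]⟩
        smul_mem' := by
          rintro c a ⟨a', ha⟩
          exact ⟨c * a', by rw [map_mul, ha, smul_eq_mul, map_mul, mul_assoc]⟩ }
    suffices hC : C = ⊤ by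
      obtain ⟨t', ht'⟩ := (Ideal.eq_top_iff_one C).1 hC
      exact ⟨t', by simpa using ht'⟩
    by_contra hC
    obtain ⟨n, hn, hCn⟩ := Ideal.exists_le_maximal C hC
    obtain ⟨_, _⟩ := hdvr n
    let L := Localization.AtPrime n
    let F := FractionRing L
    let g : T →+* F := (algebraMap L F).comp (algebraMap T L)
    let sB : B := algebraMap A B a
    have hs : g (algebraMap B T sB) ≠ 0 := by
      intro h
      have h1 : algebraMap T L (algebraMap B T sB) = algebraMap T L 0 :=
        (IsFractionRing.injective L F) (by rw [map_zero, map_zero]; exact h)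
      obtain ⟨c, hc⟩ := (IsLocalization.eq_iff_exists n.primeCompl L).1 h1
      rw [mul_zero, ← IsScalarTower.algebraMap_apply, mul_right_mem_nonZeroDivisors_eq_zero_iff (hreg a ha)] at hc
      exact c.2 (hc ▸ n.zero_mem)
    obtain ⟨p, hp, hpx⟩ := hx
    have hJy : J (algebraMap B T y) = algebraMap B Q sB * x := by
      rw [AlgHom.commutes, ← hys, mul_comm]
    have h0 : Polynomial.eval₂ (algebraMap B T) (algebraMap B T y) (p.scaleRoots sB) = 0 := by
      apply hJ
      show (J : T →+* Q) _ = J 0
      rw [Polynomial.hom_eval₂, map_zero, AlgHom.comp_algebraMap]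
      show Polynomial.eval₂ _ (J (algebraMap B T y)) _ = 0
      rw [hJy, Polynomial.scaleRoots_eval₂_mul, hpx, mul_zero]
    let τ : F := g (algebraMap B T y) / g (algebraMap B T sB)
    have h1 : Polynomial.eval₂ (g.comp (algebraMap B T)) τ p = 0 := by
      have h2 := congrArg g h0
      rw [Polynomial.hom_eval₂, map_zero,
        show g (algebraMap B T y) = (g.comp (algebraMap B T)) sB * τ from (mul_div_cancel₀ _ hs).symm,
        Polynomial.scaleRoots_eval₂_mul] at h2
      exact (mul_eq_zero.1 h2).resolve_left (pow_ne_zero _ hs)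
    have hint : IsIntegral L τ := ⟨p.map ((algebraMap T L).comp (algebraMap B T)), hp.map _, by
      rw [Polynomial.eval₂_map]; exact h1⟩
    obtain ⟨z, hz⟩ := IsIntegrallyClosed.isIntegral_iff.1 hint
    obtain ⟨w, c, rfl⟩ := IsLocalization.exists_mk'_eq n.primeCompl z
    have h2 : algebraMap T L (algebraMap B T y * c) = algebraMap T L (algebraMap B T sB * w) := by
      apply IsFractionRing.injective L F
      have h3 := congrArg (algebraMap L F) (IsLocalization.mk'_spec L w c)
      rw [map_mul, hz] at h3
      show g (algebraMap B T y * c) = g (algebraMap B T sB * w)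
      rw [map_mul, map_mul, show g w = τ * g c from h3.symm, ← mul_assoc, mul_div_cancel₀ _ hs]
    obtain ⟨c', hc'⟩ := (IsLocalization.eq_iff_exists n.primeCompl L).1 h2
    refine (c' * c).2 (hCn ⟨c' * w, ?_⟩)
    have hu : IsUnit (algebraMap B Q sB) :=
      IsLocalization.map_units Q (⟨_, ⟨a, ha, rfl⟩⟩ : Algebra.algebraMapSubmonoid B (nonZeroDivisors A))
    apply hu.mul_left_cancel
    have h4 := congrArg J hc'
    simp only [map_mul, AlgHom.commutes, Submonoid.coe_mul] at h4 ⊢
    linear_combination -h4 - (J c' * J c) * hys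
  -- conclusion
  rw [deltaInv_eq_of_algHom (B := B) J hJ hclosed]
  let l : A →ₗ[A] MA := Algebra.linearMap A MA
  let f : T →ₗ[B] B ⊗[A] (MA ⧸ LinearMap.range l) := (LinearMap.range l).mkQ.baseChange B
  have hf : Function.Surjective f := LinearMap.lTensor_surjective B (Submodule.mkQ_surjective _)
  have hker : LinearMap.ker f = LinearMap.range (Algebra.linearMap B T) := by
    have hex : Function.Exact (l.lTensor B) ((LinearMap.range l).mkQ.lTensor B) :=
      lTensor_exact B (LinearMap.exact_map_mkQ_range l) (Submodule.mkQ_surjective _)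
    ext t
    rw [LinearMap.mem_ker, LinearMap.mem_range]
    refine Iff.trans (hex t) ?_
    constructor
    · rintro ⟨z, rfl⟩
      refine ⟨TensorProduct.rid A B z, ?_⟩
      induction z using TensorProduct.induction_on with
      | zero => simp
      | tmul b a =>
        simp only [TensorProduct.rid_tmul, LinearMap.lTensor_tmul, Algebra.linearMap_apply, l]
        show (a • b) ⊗ₜ[A] (1 : MA) = b ⊗ₜ algebraMap A MA a
        rw [TensorProduct.smul_tmul, Algebra.algebraMap_eq_smul_one]
      | add a b ha hb => simp only [map_add, ha, hb]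
    · rintro ⟨b, rfl⟩
      exact ⟨b ⊗ₜ 1, by rw [LinearMap.lTensor_tmul, Algebra.linearMap_apply, map_one]; rfl⟩
  have h1 : Module.length B (T ⧸ LinearMap.range (Algebra.linearMap B T)) =
      Module.length B (B ⊗[A] (MA ⧸ LinearMap.range l)) :=
    ((Submodule.quotEquivOfEq _ _ hker.symm).trans (f.quotKerEquivOfSurjective hf)).length_eq
  haveI : Module.FaithfullyFlat A B := Module.FaithfullyFlat.of_flat_of_isLocalHom
  rw [h1, LenTensor.length_tensor (B := B) B (MA ⧸ LinearMap.range l), hm, smul_eq_mul, Ideal.mul_top]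
  haveI : IsSimpleModule B (B ⧸ maximalIdeal B) :=
    isSimpleModule_iff_quot_maximal.2 ⟨maximalIdeal B, inferInstance, ⟨LinearEquiv.refl _ _⟩⟩
  rw [Module.length_eq_one B (B ⧸ maximalIdeal B), mul_one]
  rfl

/-- Separable residue extensions. -/
theorem deltaInv_eq (hdim : ringKrullDim A = 1) (hN : Module.Finite A MA)
    (hnorm : ∀ p : PrimeSpectrum MA,
      IsDomain (Localization.AtPrime p.asIdeal) ∧ IsIntegrallyClosed (Localization.AtPrime p.asIdeal))
    (hm : (maximalIdeal A).map (algebraMap A B) = maximalIdeal B)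
    [Algebra.IsSeparable (ResidueField A) (ResidueField B)] :
    Curv2.deltaInv B = Curv2.deltaInv A :=
  deltaInv_eq_of_isReduced A B hdim hN hnorm hm fun n₀ _ _ _ => by
    letI : Field (MA ⧸ n₀) := Ideal.Quotient.field n₀
    exact isReduced_tensor_of_isSeparable (ResidueField A) (MA ⧸ n₀) (ResidueField B)

end GrothLib.DeltaFlat4
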